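import Mathlib

/-!
Small affine groups with computable torsion counts, used to give a solvable and a non-solvable
group with the same number of elements of each order.
-/

set_option autoImplicit false

namespace Cfsg.Agent.GroupStructure3.OrderType

/-- Triples. -/
@[ext] structure V3 (m : ℕ) where
  x : ZMod m
  y : ZMod m
  z : ZMod m
deriving DecidableEq

/-- Three by three matrices. -/
@[ext] structure M3 (m : ℕ) where
  r₁ : V3 m
  r₂ : V3 m
  r₃ : V3 m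
deriving DecidableEq

variable {m d : ℕ}

def dot (r v : V3 m) : ZMod m := r.x * v.x + r.y * v.y + r.z * v.z

def act (A : M3 m) (v : V3 m) : V3 m := ⟨dot A.r₁ v, dot A.r₂ v, dot A.r₃ v⟩

def vadd3 (u v : V3 m) : V3 m := ⟨u.x + v.x, u.y + v.y, u.z + v.z⟩

def madd (A B : M3 m) : M3 m := ⟨vadd3 A.r₁ B.r₁, vadd3 A.r₂ B.r₂, vadd3 A.r₃ B.r₃⟩

def rmul (r : V3 m) (B : M3 m) : V3 m :=
  ⟨r.x * B.r₁.x + r.y * B.r₂.x + r.z * B.r₃.x,
   r.x * B.r₁.y + r.y * B.r₂.y + r.z * B.r₃.y,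
   r.x * B.r₁.z + r.y * B.r₂.z + r.z * B.r₃.z⟩

def mmul (A B : M3 m) : M3 m := ⟨rmul A.r₁ B, rmul A.r₂ B, rmul A.r₃ B⟩

def mzero : M3 m := ⟨⟨0, 0, 0⟩, ⟨0, 0, 0⟩, ⟨0, 0, 0⟩⟩

def mone : M3 m := ⟨⟨1, 0, 0⟩, ⟨0, 1, 0⟩, ⟨0, 0, 1⟩⟩

/-- A linear part with a label. -/
@[ext] structure Lin (m d : ℕ) where
  mat : M3 m
  lab : ZMod d
deriving DecidableEq

def lmul (g h : Lin m d) : Lin m d := ⟨mmul g.mat h.mat, g.lab + h.lab⟩

theorem lmul_assoc (a b c : Lin m d) : lmul (lmul a b) c = lmul a (lmul b c) := by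
  ext <;> simp only [lmul, mmul, rmul] <;> ring

theorem one_lmul (a : Lin m d) : lmul ⟨mone, 0⟩ a = a := by
  ext <;> simp [lmul, mmul, rmul, mone]

theorem lmul_one (a : Lin m d) : lmul a ⟨mone, 0⟩ = a := by
  ext <;> simp [lmul, mmul, rmul, mone]

instance : Monoid (Lin m d) where
  mul := lmul
  one := ⟨mone, 0⟩
  mul_assoc := lmul_assoc
  one_mul := one_lmul
  mul_one := lmul_one

theorem lin_mul (g h : Lin m d) : g * h = ⟨mmul g.mat h.mat, g.lab + h.lab⟩ := rfl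

theorem lin_one : (1 : Lin m d) = ⟨mone, 0⟩ := rfl

/-- An affine map with a label. -/
@[ext] structure Aff (m d : ℕ) where
  lin : Lin m d
  vec : V3 m
deriving DecidableEq

def amul (g h : Aff m d) : Aff m d := ⟨g.lin * h.lin, vadd3 g.vec (act g.lin.mat h.vec)⟩

theorem amul_assoc (a b c : Aff m d) : amul (amul a b) c = amul a (amul b c) := by
  refine Aff.ext (mul_assoc _ _ _) ?_
  ext <;> simp only [amul, lin_mul, vadd3, act, dot, mmul, rmul] <;> ring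

theorem one_amul (a : Aff m d) : amul ⟨1, ⟨0, 0, 0⟩⟩ a = a := by
  refine Aff.ext (one_mul _) ?_
  ext <;> simp [amul, lin_one, vadd3, act, dot, mone]

theorem amul_one (a : Aff m d) : amul a ⟨1, ⟨0, 0, 0⟩⟩ = a := by
  refine Aff.ext (mul_one _) ?_
  ext <;> simp [amul, vadd3, act, dot]

instance : Monoid (Aff m d) where
  mul := amul
  one := ⟨1, ⟨0, 0, 0⟩⟩
  mul_assoc := amul_assoc
  one_mul := one_amul
  mul_one := amul_one

theorem aff_mul (g h : Aff m d) : g * h = ⟨g.lin * h.lin, vadd3 g.vec (act g.lin.mat h.vec)⟩ := rfl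

theorem aff_one : (1 : Aff m d) = ⟨1, ⟨0, 0, 0⟩⟩ := rfl

/-- `(h ^ n, 1 + h + ... + h ^ (n - 1))`. -/
def powSum (h : Lin m d) : ℕ → Lin m d × M3 m
  | 0 => (1, mzero)
  | n + 1 => ((powSum h n).1 * h, madd (powSum h n).2 (powSum h n).1.mat)

theorem pow_eq (h : Lin m d) (v : V3 m) :
    ∀ n : ℕ, (⟨h, v⟩ : Aff m d) ^ n = ⟨(powSum h n).1, act (powSum h n).2 v⟩
  | 0 => by
    rw [pow_zero, aff_one]
    ext <;> simp [powSum, mzero, act, dot]
  | n + 1 => by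
    rw [pow_succ, pow_eq h v n, aff_mul]
    ext <;> simp [powSum, vadd3, act, dot, madd] <;> ring

/-- The data of a factor: moduli, the orders of the coordinates and the list of linear parts. -/
structure Spec where
  m : ℕ
  d : ℕ
  q₁ : ℕ
  q₂ : ℕ
  q₃ : ℕ
  hs : List (List ℕ)

namespace Spec

variable (S : Spec)

/-- The linear part coded by a list of ten numbers. -/
def dec : List ℕ → Lin S.m S.d
  | [a, b, c, e, f, g, h, i, j, l] => ⟨⟨⟨a, b, c⟩, ⟨e, f, g⟩, ⟨h, i, j⟩⟩, l⟩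
  | _ => 1

def lins : List (Lin S.m S.d) := S.hs.map S.dec

/-- The multiples of `m / q` modulo `m`. -/
def coord (q : ℕ) : List (ZMod S.m) := (List.range q).map fun i => ((S.m / q * i : ℕ) : ZMod S.m)

def inV (v : V3 S.m) : Prop :=
  (S.q₁ : ZMod S.m) * v.x = 0 ∧ (S.q₂ : ZMod S.m) * v.y = 0 ∧ (S.q₃ : ZMod S.m) * v.z = 0

instance : DecidablePred S.inV := fun v => by unfold inV; infer_instance

def vecs : List (V3 S.m) :=
  (S.coord S.q₁).flatMap fun a => (S.coord S.q₂).flatMap fun b => (S.coord S.q₃).map fun c => ⟨a, b, c⟩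

/-- The checks making the specification define a group. -/
structure Ok : Prop where
  pos : 0 < S.m
  dvd₁ : S.q₁ ∣ S.m
  dvd₂ : S.q₂ ∣ S.m
  dvd₃ : S.q₃ ∣ S.m
  one_mem : (1 : Lin S.m S.d) ∈ S.lins
  mul_mem : ∀ g ∈ S.lins, ∀ h ∈ S.lins, g * h ∈ S.lins
  stable : ∀ g ∈ S.lins, ∀ v ∈ S.vecs, S.inV (act g.mat v)
  nodup : S.lins.Nodup
  exp : ∀ g ∈ S.lins, (powSum g 84).1 = 1 ∧ ∀ v ∈ S.vecs, act (powSum g 84).2 v = ⟨0, 0, 0⟩

/-- The number of elements killed by `n`. -/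
def tors (n : ℕ) : ℕ :=
  (S.lins.map fun g =>
    if (powSum g n).1 = 1 then S.vecs.countP fun v => decide (act (powSum g n).2 v = ⟨0, 0, 0⟩)
    else 0).sum

end Spec

end Cfsg.Agent.GroupStructure3.OrderType
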