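import Cfsg.Agent.GroupStructure3.OrderType.Group

/-!
Specifications of factors, part 1, with their checked properties.
-/

set_option autoImplicit false

namespace Cfsg.Agent.GroupStructure3.OrderType

def spec3 : Spec := ⟨3, 4, 3, 1, 1,
   [[1,0,0,0,1,0,0,0,1,0],
    [2,0,0,0,1,0,0,0,1,1],
    [1,0,0,0,1,0,0,0,1,2],
    [2,0,0,0,1,0,0,0,1,3]]⟩

theorem ok3 : spec3.Ok where
  pos := by decide
  dvd₁ := by decide +kernel
  dvd₂ := by decide +kernel
  dvd₃ := by decide +kernel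
  one_mem := by decide +kernel
  mul_mem := by decide +kernel
  stable := by decide +kernel
  nodup := by decide +kernel
  exp := by decide +kernel

theorem tors3 : [1,2,3,4,6,7,12,14,21,28,42,84].map spec3.tors = [1,2,3,8,6,1,12,2,3,8,6,12] := by decide +kernel

def spec5 : Spec := ⟨1, 14, 1, 1, 1,
   [[0,0,0,0,0,0,0,0,0,0],
    [0,0,0,0,0,0,0,0,0,1],
    [0,0,0,0,0,0,0,0,0,2],
    [0,0,0,0,0,0,0,0,0,3],
    [0,0,0,0,0,0,0,0,0,4],
    [0,0,0,0,0,0,0,0,0,5],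
    [0,0,0,0,0,0,0,0,0,6],
    [0,0,0,0,0,0,0,0,0,7],
    [0,0,0,0,0,0,0,0,0,8],
    [0,0,0,0,0,0,0,0,0,9],
    [0,0,0,0,0,0,0,0,0,10],
    [0,0,0,0,0,0,0,0,0,11],
    [0,0,0,0,0,0,0,0,0,12],
    [0,0,0,0,0,0,0,0,0,13]]⟩

theorem ok5 : spec5.Ok where
  pos := by decide
  dvd₁ := by decide +kernel
  dvd₂ := by decide +kernel
  dvd₃ := by decide +kernel
  one_mem := by decide +kernel
  mul_mem := by decide +kernel
  stable := by decide +kernel
  nodup := by decide +kernel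
  exp := by decide +kernel

theorem tors5 : [1,2,3,4,6,7,12,14,21,28,42,84].map spec5.tors = [1,2,1,2,2,7,2,14,7,14,14,14] := by decide +kernel

def spec8 : Spec := ⟨7, 4, 7, 1, 1,
   [[1,0,0,0,1,0,0,0,1,0],
    [6,0,0,0,1,0,0,0,1,1],
    [1,0,0,0,1,0,0,0,1,2],
    [6,0,0,0,1,0,0,0,1,3]]⟩

theorem ok8 : spec8.Ok where
  pos := by decide
  dvd₁ := by decide +kernel
  dvd₂ := by decide +kernel
  dvd₃ := by decide +kernel
  one_mem := by decide +kernel
  mul_mem := by decide +kernel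
  stable := by decide +kernel
  nodup := by decide +kernel
  exp := by decide +kernel

theorem tors8 : [1,2,3,4,6,7,12,14,21,28,42,84].map spec8.tors = [1,2,1,16,2,7,16,14,7,28,14,28] := by decide +kernel

def spec15 : Spec := ⟨7, 4, 7, 7, 1,
   [[1,0,0,0,1,0,0,0,1,0],
    [0,1,0,6,0,0,0,0,1,1],
    [6,0,0,0,6,0,0,0,1,2],
    [0,6,0,1,0,0,0,0,1,3]]⟩

theorem ok15 : spec15.Ok where
  pos := by decide
  dvd₁ := by decide +kernel
  dvd₂ := by decide +kernel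
  dvd₃ := by decide +kernel
  one_mem := by decide +kernel
  mul_mem := by decide +kernel
  stable := by decide +kernel
  nodup := by decide +kernel
  exp := by decide +kernel

theorem tors15 : [1,2,3,4,6,7,12,14,21,28,42,84].map spec15.tors = [1,50,1,148,50,49,148,98,49,196,98,196] := by decide +kernel

def spec17 : Spec := ⟨7, 6, 7, 7, 1,
   [[1,0,0,0,1,0,0,0,1,0],
    [3,0,0,0,3,0,0,0,1,1],
    [2,0,0,0,2,0,0,0,1,2],
    [6,0,0,0,6,0,0,0,1,3],
    [4,0,0,0,4,0,0,0,1,4],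
    [5,0,0,0,5,0,0,0,1,5]]⟩

theorem ok17 : spec17.Ok where
  pos := by decide
  dvd₁ := by decide +kernel
  dvd₂ := by decide +kernel
  dvd₃ := by decide +kernel
  one_mem := by decide +kernel
  mul_mem := by decide +kernel
  stable := by decide +kernel
  nodup := by decide +kernel
  exp := by decide +kernel

theorem tors17 : [1,2,3,4,6,7,12,14,21,28,42,84].map spec17.tors = [1,50,99,50,246,49,246,98,147,98,294,294] := by decide +kernel

def spec26 : Spec := ⟨7, 1, 7, 7, 1,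
   [[1,0,0,0,1,0,0,0,1,0],
    [0,6,0,6,0,0,0,0,1,0],
    [5,6,0,1,0,0,0,0,1,0],
    [6,0,0,2,1,0,0,0,1,0],
    [1,2,0,0,6,0,0,0,1,0],
    [3,2,0,5,6,0,0,0,1,0],
    [0,1,0,6,5,0,0,0,1,0],
    [2,1,0,4,5,0,0,0,1,0],
    [5,4,0,1,2,0,0,0,1,0],
    [3,4,0,3,2,0,0,0,1,0],
    [6,5,0,2,3,0,0,0,1,0],
    [4,5,0,4,3,0,0,0,1,0],
    [3,4,0,5,4,0,0,0,1,0],
    [5,4,0,3,4,0,0,0,1,0],
    [2,3,0,4,3,0,0,0,1,0],
    [4,3,0,2,3,0,0,0,1,0],
    [3,2,0,3,4,0,0,0,1,0],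
    [1,2,0,5,4,0,0,0,1,0],
    [4,3,0,4,5,0,0,0,1,0],
    [2,3,0,6,5,0,0,0,1,0],
    [5,6,0,3,2,0,0,0,1,0],
    [0,6,0,1,2,0,0,0,1,0],
    [4,5,0,2,1,0,0,0,1,0],
    [6,5,0,0,1,0,0,0,1,0],
    [1,0,0,5,6,0,0,0,1,0],
    [6,0,0,0,6,0,0,0,1,0],
    [2,1,0,6,0,0,0,0,1,0],
    [0,1,0,1,0,0,0,0,1,0]]⟩

theorem ok26 : spec26.Ok where
  pos := by decide
  dvd₁ := by decide +kernel
  dvd₂ := by decide +kernel
  dvd₃ := by decide +kernel
  one_mem := by decide +kernel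
  mul_mem := by decide +kernel
  stable := by decide +kernel
  nodup := by decide +kernel
  exp := by decide +kernel

theorem tors26 : [1,2,3,4,6,7,12,14,21,28,42,84].map spec26.tors = [1,148,1,148,148,343,148,1372,343,1372,1372,1372] := by decide +kernel

end Cfsg.Agent.GroupStructure3.OrderType
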