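import Cfsg.Agent.GroupStructure3.OrderType.Group

/-!
Specifications of factors, part 2, with their checked properties.
-/

set_option autoImplicit false

namespace Cfsg.Agent.GroupStructure3.OrderType

def spec2 : Spec := ⟨2, 3, 2, 2, 1,
   [[1,0,0,0,1,0,0,0,1,0],
    [0,1,0,1,1,0,0,0,1,1],
    [1,1,0,1,0,0,0,0,1,2]]⟩

theorem ok2 : spec2.Ok where
  pos := by decide
  dvd₁ := by decide +kernel
  dvd₂ := by decide +kernel
  dvd₃ := by decide +kernel
  one_mem := by decide +kernel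
  mul_mem := by decide +kernel
  stable := by decide +kernel
  nodup := by decide +kernel
  exp := by decide +kernel

theorem tors2 : [1,2,3,4,6,7,12,14,21,28,42,84].map spec2.tors = [1,4,9,4,12,1,12,4,9,4,12,12] := by decide +kernel

def spec7 : Spec := ⟨2, 1, 2, 2, 1,
   [[1,0,0,0,1,0,0,0,1,0],
    [1,0,0,1,1,0,0,0,1,0],
    [1,1,0,0,1,0,0,0,1,0],
    [1,1,0,1,0,0,0,0,1,0],
    [0,1,0,1,1,0,0,0,1,0],
    [0,1,0,1,0,0,0,0,1,0]]⟩

theorem ok7 : spec7.Ok where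
  pos := by decide
  dvd₁ := by decide +kernel
  dvd₂ := by decide +kernel
  dvd₃ := by decide +kernel
  one_mem := by decide +kernel
  mul_mem := by decide +kernel
  stable := by decide +kernel
  nodup := by decide +kernel
  exp := by decide +kernel

theorem tors7 : [1,2,3,4,6,7,12,14,21,28,42,84].map spec7.tors = [1,10,9,16,18,1,24,10,9,16,18,24] := by decide +kernel

def spec11 : Spec := ⟨7, 12, 7, 1, 1,
   [[1,0,0,0,1,0,0,0,1,0],
    [3,0,0,0,1,0,0,0,1,1],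
    [2,0,0,0,1,0,0,0,1,2],
    [6,0,0,0,1,0,0,0,1,3],
    [4,0,0,0,1,0,0,0,1,4],
    [5,0,0,0,1,0,0,0,1,5],
    [1,0,0,0,1,0,0,0,1,6],
    [3,0,0,0,1,0,0,0,1,7],
    [2,0,0,0,1,0,0,0,1,8],
    [6,0,0,0,1,0,0,0,1,9],
    [4,0,0,0,1,0,0,0,1,10],
    [5,0,0,0,1,0,0,0,1,11]]⟩

theorem ok11 : spec11.Ok where
  pos := by decide
  dvd₁ := by decide +kernel
  dvd₂ := by decide +kernel
  dvd₃ := by decide +kernel
  one_mem := by decide +kernel
  mul_mem := by decide +kernel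
  stable := by decide +kernel
  nodup := by decide +kernel
  exp := by decide +kernel

theorem tors11 : [1,2,3,4,6,7,12,14,21,28,42,84].map spec11.tors = [1,2,15,16,30,7,72,14,21,28,42,84] := by decide +kernel

def spec18 : Spec := ⟨7, 1, 7, 7, 1,
   [[1,0,0,0,1,0,0,0,1,0],
    [0,1,0,6,6,0,0,0,1,0],
    [0,6,0,6,0,0,0,0,1,0],
    [6,6,0,1,0,0,0,0,1,0],
    [6,0,0,1,1,0,0,0,1,0],
    [1,1,0,0,6,0,0,0,1,0]]⟩

theorem ok18 : spec18.Ok where
  pos := by decide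
  dvd₁ := by decide +kernel
  dvd₂ := by decide +kernel
  dvd₃ := by decide +kernel
  one_mem := by decide +kernel
  mul_mem := by decide +kernel
  stable := by decide +kernel
  nodup := by decide +kernel
  exp := by decide +kernel

theorem tors18 : [1,2,3,4,6,7,12,14,21,28,42,84].map spec18.tors = [1,22,99,22,120,49,120,196,147,196,294,294] := by decide +kernel

def spec19 : Spec := ⟨7, 1, 7, 7, 1,
   [[1,0,0,0,1,0,0,0,1,0],
    [0,1,0,6,0,0,0,0,1,0],
    [1,0,0,0,6,0,0,0,1,0],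
    [6,0,0,0,6,0,0,0,1,0],
    [0,6,0,6,0,0,0,0,1,0],
    [0,1,0,1,0,0,0,0,1,0],
    [0,6,0,1,0,0,0,0,1,0],
    [6,0,0,0,1,0,0,0,1,0]]⟩

theorem ok19 : spec19.Ok where
  pos := by decide
  dvd₁ := by decide +kernel
  dvd₂ := by decide +kernel
  dvd₃ := by decide +kernel
  one_mem := by decide +kernel
  mul_mem := by decide +kernel
  stable := by decide +kernel
  nodup := by decide +kernel
  exp := by decide +kernel

theorem tors19 : [1,2,3,4,6,7,12,14,21,28,42,84].map spec19.tors = [1,78,1,176,78,49,176,294,49,392,294,392] := by decide +kernel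

def spec25 : Spec := ⟨7, 1, 7, 7, 1,
   [[1,0,0,0,1,0,0,0,1,0],
    [0,3,0,6,0,0,0,0,1,0],
    [0,4,0,6,0,0,0,0,1,0],
    [4,0,0,0,4,0,0,0,1,0],
    [4,0,0,0,3,0,0,0,1,0],
    [3,0,0,0,4,0,0,0,1,0],
    [3,0,0,0,3,0,0,0,1,0],
    [0,5,0,3,0,0,0,0,1,0],
    [0,2,0,3,0,0,0,0,1,0],
    [0,5,0,4,0,0,0,0,1,0],
    [0,2,0,4,0,0,0,0,1,0],
    [2,0,0,0,2,0,0,0,1,0],
    [2,0,0,0,5,0,0,0,1,0],
    [5,0,0,0,2,0,0,0,1,0],
    [5,0,0,0,5,0,0,0,1,0],
    [0,6,0,5,0,0,0,0,1,0],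
    [0,1,0,5,0,0,0,0,1,0],
    [0,6,0,2,0,0,0,0,1,0],
    [0,1,0,2,0,0,0,0,1,0],
    [1,0,0,0,6,0,0,0,1,0],
    [6,0,0,0,1,0,0,0,1,0],
    [6,0,0,0,6,0,0,0,1,0],
    [0,3,0,1,0,0,0,0,1,0],
    [0,4,0,1,0,0,0,0,1,0]]⟩

theorem ok25 : spec25.Ok where
  pos := by decide
  dvd₁ := by decide +kernel
  dvd₂ := by decide +kernel
  dvd₃ := by decide +kernel
  one_mem := by decide +kernel
  mul_mem := by decide +kernel
  stable := by decide +kernel
  nodup := by decide +kernel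
  exp := by decide +kernel

theorem tors25 : [1,2,3,4,6,7,12,14,21,28,42,84].map spec25.tors = [1,78,99,176,666,49,960,294,147,392,882,1176] := by decide +kernel

end Cfsg.Agent.GroupStructure3.OrderType
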