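import Cfsg.Agent.GroupStructure3.OrderType.Group

/-!
Specifications of factors, part 3, with their checked properties.
-/

set_option autoImplicit false

namespace Cfsg.Agent.GroupStructure3.OrderType

def spec4 : Spec := ⟨7, 2, 7, 1, 1,
   [[1,0,0,0,1,0,0,0,1,0],
    [6,0,0,0,1,0,0,0,1,1]]⟩

theorem ok4 : spec4.Ok where
  pos := by decide
  dvd₁ := by decide +kernel
  dvd₂ := by decide +kernel
  dvd₃ := by decide +kernel
  one_mem := by decide +kernel
  mul_mem := by decide +kernel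
  stable := by decide +kernel
  nodup := by decide +kernel
  exp := by decide +kernel

theorem tors4 : [1,2,3,4,6,7,12,14,21,28,42,84].map spec4.tors = [1,8,1,8,8,7,8,14,7,14,14,14] := by decide +kernel

def spec6 : Spec := ⟨7, 3, 7, 1, 1,
   [[1,0,0,0,1,0,0,0,1,0],
    [2,0,0,0,1,0,0,0,1,1],
    [4,0,0,0,1,0,0,0,1,2]]⟩

theorem ok6 : spec6.Ok where
  pos := by decide
  dvd₁ := by decide +kernel
  dvd₂ := by decide +kernel
  dvd₃ := by decide +kernel
  one_mem := by decide +kernel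
  mul_mem := by decide +kernel
  stable := by decide +kernel
  nodup := by decide +kernel
  exp := by decide +kernel

theorem tors6 : [1,2,3,4,6,7,12,14,21,28,42,84].map spec6.tors = [1,1,15,1,15,7,15,7,21,7,21,21] := by decide +kernel

def spec10 : Spec := ⟨21, 4, 3, 7, 1,
   [[1,0,0,0,1,0,0,0,1,0],
    [8,0,0,0,13,0,0,0,1,1],
    [1,0,0,0,1,0,0,0,1,2],
    [8,0,0,0,13,0,0,0,1,3]]⟩

theorem ok10 : spec10.Ok where
  pos := by decide
  dvd₁ := by decide +kernel
  dvd₂ := by decide +kernel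
  dvd₃ := by decide +kernel
  one_mem := by decide +kernel
  mul_mem := by decide +kernel
  stable := by decide +kernel
  nodup := by decide +kernel
  exp := by decide +kernel

theorem tors10 : [1,2,3,4,6,7,12,14,21,28,42,84].map spec10.tors = [1,2,3,44,6,7,48,14,21,56,42,84] := by decide +kernel

def spec13 : Spec := ⟨2, 1, 2, 2, 2,
   [[1,0,0,0,1,0,0,0,1,0],
    [0,1,1,0,1,0,1,1,1,0],
    [0,0,1,1,1,0,0,1,1,0],
    [1,0,1,0,1,0,1,1,0,0],
    [1,0,1,1,1,0,1,0,0,0],
    [1,1,1,0,0,1,1,0,1,0],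
    [0,1,1,1,1,1,1,0,1,0],
    [0,1,0,1,1,0,1,1,1,0],
    [1,0,0,0,0,1,0,1,1,0],
    [0,1,0,1,1,1,0,0,1,0],
    [1,1,0,1,1,1,1,0,0,0],
    [1,0,0,0,1,1,0,1,0,0],
    [1,0,1,1,0,0,0,1,0,0],
    [0,1,0,0,0,1,1,1,0,0],
    [0,0,1,0,1,1,1,0,1,0],
    [1,1,0,1,0,0,0,1,1,0],
    [1,1,1,1,0,0,0,0,1,0],
    [0,1,1,1,0,1,0,1,0,0],
    [0,0,1,1,0,1,1,1,0,0],
    [1,1,0,0,1,1,1,1,1,0],
    [1,1,1,1,0,1,1,0,0,0]]⟩

theorem ok13 : spec13.Ok where
  pos := by decide
  dvd₁ := by decide +kernel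
  dvd₂ := by decide +kernel
  dvd₃ := by decide +kernel
  one_mem := by decide +kernel
  mul_mem := by decide +kernel
  stable := by decide +kernel
  nodup := by decide +kernel
  exp := by decide +kernel

theorem tors13 : [1,2,3,4,6,7,12,14,21,28,42,84].map spec13.tors = [1,8,57,8,120,49,120,56,105,56,168,168] := by decide +kernel

def spec16 : Spec := ⟨21, 2, 3, 7, 7,
   [[1,0,0,0,1,0,0,0,1,0],
    [8,0,0,0,13,0,0,0,13,1]]⟩

theorem ok16 : spec16.Ok where
  pos := by decide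
  dvd₁ := by decide +kernel
  dvd₂ := by decide +kernel
  dvd₃ := by decide +kernel
  one_mem := by decide +kernel
  mul_mem := by decide +kernel
  stable := by decide +kernel
  nodup := by decide +kernel
  exp := by decide +kernel

theorem tors16 : [1,2,3,4,6,7,12,14,21,28,42,84].map spec16.tors = [1,148,3,148,150,49,150,196,147,196,294,294] := by decide +kernel

def spec22 : Spec := ⟨7, 12, 7, 7, 1,
   [[1,0,0,0,1,0,0,0,1,0],
    [0,1,0,3,0,0,0,0,1,1],
    [3,0,0,0,3,0,0,0,1,2],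
    [0,3,0,2,0,0,0,0,1,3],
    [2,0,0,0,2,0,0,0,1,4],
    [0,2,0,6,0,0,0,0,1,5],
    [6,0,0,0,6,0,0,0,1,6],
    [0,6,0,4,0,0,0,0,1,7],
    [4,0,0,0,4,0,0,0,1,8],
    [0,4,0,5,0,0,0,0,1,9],
    [5,0,0,0,5,0,0,0,1,10],
    [0,5,0,1,0,0,0,0,1,11]]⟩

theorem ok22 : spec22.Ok where
  pos := by decide
  dvd₁ := by decide +kernel
  dvd₂ := by decide +kernel
  dvd₃ := by decide +kernel
  one_mem := by decide +kernel
  mul_mem := by decide +kernel
  stable := by decide +kernel
  nodup := by decide +kernel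
  exp := by decide +kernel

theorem tors22 : [1,2,3,4,6,7,12,14,21,28,42,84].map spec22.tors = [1,50,99,148,246,49,540,98,147,196,294,588] := by decide +kernel

def spec24 : Spec := ⟨21, 6, 3, 7, 7,
   [[1,0,0,0,1,0,0,0,1,0],
    [8,0,0,0,13,0,0,0,10,1],
    [1,0,0,0,1,0,0,0,16,2],
    [8,0,0,0,13,0,0,0,13,3],
    [1,0,0,0,1,0,0,0,4,4],
    [8,0,0,0,13,0,0,0,19,5]]⟩

theorem ok24 : spec24.Ok where
  pos := by decide
  dvd₁ := by decide +kernel
  dvd₂ := by decide +kernel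
  dvd₃ := by decide +kernel
  one_mem := by decide +kernel
  mul_mem := by decide +kernel
  stable := by decide +kernel
  nodup := by decide +kernel
  exp := by decide +kernel

theorem tors24 : [1,2,3,4,6,7,12,14,21,28,42,84].map spec24.tors = [1,148,45,148,486,49,486,196,441,196,882,882] := by decide +kernel

end Cfsg.Agent.GroupStructure3.OrderType
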