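import Cfsg.Agent.GroupStructure3.OrderType.Group

/-!
Specifications of factors, part 4, with their checked properties.
-/

set_option autoImplicit false

namespace Cfsg.Agent.GroupStructure3.OrderType

def spec0 : Spec := ⟨1, 2, 1, 1, 1,
   [[0,0,0,0,0,0,0,0,0,0],
    [0,0,0,0,0,0,0,0,0,1]]⟩

theorem ok0 : spec0.Ok where
  pos := by decide
  dvd₁ := by decide +kernel
  dvd₂ := by decide +kernel
  dvd₃ := by decide +kernel
  one_mem := by decide +kernel
  mul_mem := by decide +kernel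
  stable := by decide +kernel
  nodup := by decide +kernel
  exp := by decide +kernel

theorem tors0 : [1,2,3,4,6,7,12,14,21,28,42,84].map spec0.tors = [1,2,1,2,2,1,2,2,1,2,2,2] := by decide +kernel

def spec1 : Spec := ⟨1, 3, 1, 1, 1,
   [[0,0,0,0,0,0,0,0,0,0],
    [0,0,0,0,0,0,0,0,0,1],
    [0,0,0,0,0,0,0,0,0,2]]⟩

theorem ok1 : spec1.Ok where
  pos := by decide
  dvd₁ := by decide +kernel
  dvd₂ := by decide +kernel
  dvd₃ := by decide +kernel
  one_mem := by decide +kernel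
  mul_mem := by decide +kernel
  stable := by decide +kernel
  nodup := by decide +kernel
  exp := by decide +kernel

theorem tors1 : [1,2,3,4,6,7,12,14,21,28,42,84].map spec1.tors = [1,1,3,1,3,1,3,1,3,1,3,3] := by decide +kernel

def spec9 : Spec := ⟨7, 6, 7, 1, 1,
   [[1,0,0,0,1,0,0,0,1,0],
    [3,0,0,0,1,0,0,0,1,1],
    [2,0,0,0,1,0,0,0,1,2],
    [6,0,0,0,1,0,0,0,1,3],
    [4,0,0,0,1,0,0,0,1,4],
    [5,0,0,0,1,0,0,0,1,5]]⟩

theorem ok9 : spec9.Ok where
  pos := by decide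
  dvd₁ := by decide +kernel
  dvd₂ := by decide +kernel
  dvd₃ := by decide +kernel
  one_mem := by decide +kernel
  mul_mem := by decide +kernel
  stable := by decide +kernel
  nodup := by decide +kernel
  exp := by decide +kernel

theorem tors9 : [1,2,3,4,6,7,12,14,21,28,42,84].map spec9.tors = [1,8,15,8,36,7,36,14,21,14,42,42] := by decide +kernel

def spec12 : Spec := ⟨7, 2, 7, 7, 1,
   [[1,0,0,0,1,0,0,0,1,0],
    [6,0,0,0,6,0,0,0,1,1]]⟩

theorem ok12 : spec12.Ok where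
  pos := by decide
  dvd₁ := by decide +kernel
  dvd₂ := by decide +kernel
  dvd₃ := by decide +kernel
  one_mem := by decide +kernel
  mul_mem := by decide +kernel
  stable := by decide +kernel
  nodup := by decide +kernel
  exp := by decide +kernel

theorem tors12 : [1,2,3,4,6,7,12,14,21,28,42,84].map spec12.tors = [1,50,1,50,50,49,50,98,49,98,98,98] := by decide +kernel

def spec14 : Spec := ⟨7, 4, 7, 7, 1,
   [[1,0,0,0,1,0,0,0,1,0],
    [6,0,0,0,6,0,0,0,1,1],
    [1,0,0,0,1,0,0,0,1,2],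
    [6,0,0,0,6,0,0,0,1,3]]⟩

theorem ok14 : spec14.Ok where
  pos := by decide
  dvd₁ := by decide +kernel
  dvd₂ := by decide +kernel
  dvd₃ := by decide +kernel
  one_mem := by decide +kernel
  mul_mem := by decide +kernel
  stable := by decide +kernel
  nodup := by decide +kernel
  exp := by decide +kernel

theorem tors14 : [1,2,3,4,6,7,12,14,21,28,42,84].map spec14.tors = [1,2,1,100,2,49,100,98,49,196,98,196] := by decide +kernel

def spec20 : Spec := ⟨7, 12, 7, 7, 1,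
   [[1,0,0,0,1,0,0,0,1,0],
    [2,0,0,0,2,0,0,0,1,1],
    [4,0,0,0,4,0,0,0,1,2],
    [1,0,0,0,1,0,0,0,1,3],
    [2,0,0,0,2,0,0,0,1,4],
    [4,0,0,0,4,0,0,0,1,5],
    [1,0,0,0,1,0,0,0,1,6],
    [2,0,0,0,2,0,0,0,1,7],
    [4,0,0,0,4,0,0,0,1,8],
    [1,0,0,0,1,0,0,0,1,9],
    [2,0,0,0,2,0,0,0,1,10],
    [4,0,0,0,4,0,0,0,1,11]]⟩

theorem ok20 : spec20.Ok where
  pos := by decide
  dvd₁ := by decide +kernel
  dvd₂ := by decide +kernel
  dvd₃ := by decide +kernel
  one_mem := by decide +kernel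
  mul_mem := by decide +kernel
  stable := by decide +kernel
  nodup := by decide +kernel
  exp := by decide +kernel

theorem tors20 : [1,2,3,4,6,7,12,14,21,28,42,84].map spec20.tors = [1,2,99,4,198,49,396,98,147,196,294,588] := by decide +kernel

def spec21 : Spec := ⟨7, 12, 7, 7, 1,
   [[1,0,0,0,1,0,0,0,1,0],
    [3,0,0,0,3,0,0,0,1,1],
    [2,0,0,0,2,0,0,0,1,2],
    [6,0,0,0,6,0,0,0,1,3],
    [4,0,0,0,4,0,0,0,1,4],
    [5,0,0,0,5,0,0,0,1,5],
    [1,0,0,0,1,0,0,0,1,6],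
    [3,0,0,0,3,0,0,0,1,7],
    [2,0,0,0,2,0,0,0,1,8],
    [6,0,0,0,6,0,0,0,1,9],
    [4,0,0,0,4,0,0,0,1,10],
    [5,0,0,0,5,0,0,0,1,11]]⟩

theorem ok21 : spec21.Ok where
  pos := by decide
  dvd₁ := by decide +kernel
  dvd₂ := by decide +kernel
  dvd₃ := by decide +kernel
  one_mem := by decide +kernel
  mul_mem := by decide +kernel
  stable := by decide +kernel
  nodup := by decide +kernel
  exp := by decide +kernel

theorem tors21 : [1,2,3,4,6,7,12,14,21,28,42,84].map spec21.tors = [1,2,99,100,198,49,492,98,147,196,294,588] := by decide +kernel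

def spec23 : Spec := ⟨7, 12, 7, 7, 1,
   [[1,0,0,0,1,0,0,0,1,0],
    [6,0,0,0,3,0,0,0,1,1],
    [1,0,0,0,2,0,0,0,1,2],
    [6,0,0,0,6,0,0,0,1,3],
    [1,0,0,0,4,0,0,0,1,4],
    [6,0,0,0,5,0,0,0,1,5],
    [1,0,0,0,1,0,0,0,1,6],
    [6,0,0,0,3,0,0,0,1,7],
    [1,0,0,0,2,0,0,0,1,8],
    [6,0,0,0,6,0,0,0,1,9],
    [1,0,0,0,4,0,0,0,1,10],
    [6,0,0,0,5,0,0,0,1,11]]⟩

theorem ok23 : spec23.Ok where
  pos := by decide
  dvd₁ := by decide +kernel
  dvd₂ := by decide +kernel
  dvd₃ := by decide +kernel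
  one_mem := by decide +kernel
  mul_mem := by decide +kernel
  stable := by decide +kernel
  nodup := by decide +kernel
  exp := by decide +kernel

theorem tors23 : [1,2,3,4,6,7,12,14,21,28,42,84].map spec23.tors = [1,2,15,100,30,49,324,98,147,196,294,588] := by decide +kernel

end Cfsg.Agent.GroupStructure3.OrderType
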