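import Cfsg.Agent.GroupStructure3.OrderType.Group

/-!
The specification of `SL(3,2)`.
-/

set_option autoImplicit false

namespace Cfsg.Agent.GroupStructure3.OrderType

def spec27 : Spec := ⟨2, 1, 1, 1, 1,
   [[1,0,0,0,1,0,0,0,1,0],
    [1,1,0,0,1,0,0,0,1,0],
    [0,0,1,1,0,0,0,1,0,0],
    [1,0,1,1,0,0,0,1,0,0],
    [0,0,1,1,1,0,0,1,0,0],
    [0,1,0,0,0,1,1,0,0,0],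
    [1,1,1,1,1,0,0,1,0,0],
    [0,1,1,0,0,1,1,0,0,0],
    [0,1,0,1,0,1,1,0,0,0],
    [0,1,0,0,0,1,1,1,0,0],
    [1,1,1,1,0,1,1,0,0,0],
    [0,1,1,0,0,1,1,1,0,0],
    [0,1,0,1,1,1,1,1,0,0],
    [1,0,0,0,1,1,0,0,1,0],
    [1,0,0,0,1,0,1,0,1,0],
    [1,0,1,1,1,1,1,1,0,0],
    [1,1,1,0,1,1,0,0,1,0],
    [1,1,0,0,1,0,1,0,1,0],
    [1,0,0,1,1,1,1,0,1,0],
    [1,1,0,0,1,1,0,0,1,0],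
    [1,1,0,0,1,0,1,1,1,0],
    [0,0,1,1,0,0,0,1,1,0],
    [0,1,1,1,1,1,1,0,1,0],
    [1,0,1,0,1,1,0,0,1,0],
    [1,0,0,0,1,0,1,1,1,0],
    [1,0,1,1,0,0,0,1,1,0],
    [1,1,0,1,0,1,1,1,1,0],
    [0,0,1,1,1,1,0,1,1,0],
    [1,0,1,1,1,0,0,1,0,0],
    [1,0,1,1,0,0,1,1,1,0],
    [0,0,1,1,1,0,0,1,1,0],
    [0,1,1,1,0,1,1,1,1,0],
    [1,1,0,1,1,1,0,1,1,0],
    [0,1,1,1,1,0,0,1,0,0],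
    [0,0,1,1,0,0,1,1,1,0],
    [1,1,1,1,1,0,0,1,1,0],
    [1,0,1,0,1,1,1,1,1,0],
    [0,0,1,1,0,1,0,1,1,0],
    [1,1,1,1,0,0,0,1,0,0],
    [0,1,1,1,0,1,1,0,0,0],
    [1,1,1,1,1,0,1,0,1,0],
    [0,1,1,0,0,1,1,1,1,0],
    [0,1,0,1,0,1,1,1,0,0],
    [1,1,0,0,1,1,1,1,1,0],
    [1,0,0,1,0,1,0,1,1,0],
    [0,1,1,1,0,0,0,1,0,0],
    [1,1,0,1,0,1,1,0,0,0],
    [0,0,1,1,1,0,1,0,1,0],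
    [0,1,0,0,0,1,1,1,1,0],
    [1,1,1,1,0,1,1,1,0,0],
    [1,1,1,0,1,1,1,0,1,0],
    [0,1,1,1,1,0,1,1,1,0],
    [0,1,0,0,1,1,1,1,0,0],
    [1,1,1,0,0,1,1,0,0,0],
    [0,1,1,1,1,1,1,1,0,0],
    [1,1,1,1,0,1,0,1,1,0],
    [0,1,1,0,0,1,1,0,1,0],
    [0,1,0,1,1,1,1,0,0,0],
    [1,0,0,0,1,1,1,0,1,0],
    [1,0,1,1,1,0,1,1,1,0],
    [0,0,1,0,1,1,1,1,0,0],
    [1,1,0,0,0,1,1,0,0,0],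
    [1,0,0,1,1,1,1,1,0,0],
    [0,1,0,1,0,1,0,1,1,0],
    [0,1,0,0,0,1,1,0,1,0],
    [1,0,1,1,1,1,1,0,0,0],
    [0,1,1,1,0,0,1,0,1,0],
    [0,1,0,0,1,1,1,0,0,0],
    [1,0,0,1,1,0,1,0,1,0],
    [1,0,1,0,0,1,1,1,0,0],
    [1,1,1,0,1,0,0,0,1,0],
    [1,1,0,1,1,1,1,0,1,0],
    [1,0,1,1,1,1,0,1,1,0],
    [1,1,1,0,1,1,1,1,0,0],
    [1,1,0,0,1,0,0,1,1,0],
    [1,0,0,1,1,1,0,0,1,0],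
    [1,1,1,1,0,0,1,0,1,0],
    [0,0,1,0,1,1,1,0,0,0],
    [0,1,0,1,1,0,1,0,1,0],
    [1,0,0,0,0,1,1,1,0,0],
    [1,0,1,0,1,0,0,0,1,0],
    [0,0,1,1,1,1,1,0,1,0],
    [0,1,0,1,1,1,0,1,1,0],
    [1,0,0,0,1,1,1,1,0,0],
    [1,0,0,0,1,0,0,1,1,0],
    [0,1,1,1,1,1,0,0,1,0],
    [1,1,0,0,0,1,0,1,1,0],
    [1,0,0,1,1,0,0,0,1,0],
    [1,1,0,1,0,0,1,1,1,0],
    [0,1,1,0,1,0,1,0,1,0],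
    [1,0,0,1,0,1,1,1,1,0],
    [1,0,1,0,1,1,1,0,0,0],
    [1,0,1,1,0,0,1,1,0,0],
    [1,1,0,1,0,1,0,0,1,0],
    [0,0,1,1,1,1,0,1,0,0],
    [1,1,1,0,0,1,0,1,1,0],
    [0,1,0,1,1,0,0,0,1,0],
    [0,1,0,1,0,0,1,1,1,0],
    [0,0,1,0,1,0,1,0,1,0],
    [0,0,1,1,0,1,1,1,1,0],
    [1,1,0,0,1,1,1,0,0,0],
    [0,0,1,1,0,0,1,1,0,0],
    [0,1,1,1,0,1,0,0,1,0],
    [1,1,0,1,1,1,0,1,0,0],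
    [1,0,0,0,0,1,0,1,1,0],
    [1,0,1,0,1,0,1,1,0,0],
    [1,1,0,1,0,0,0,0,1,0],
    [0,0,1,1,0,1,0,1,0,0],
    [1,0,1,0,0,1,1,1,1,0],
    [0,1,1,0,1,0,1,1,1,0],
    [1,1,0,1,0,0,0,1,1,0],
    [0,0,1,0,1,1,1,1,1,0],
    [0,1,1,1,1,0,0,0,1,0],
    [1,1,1,1,1,0,1,0,0,0],
    [1,0,1,0,1,1,0,1,0,0],
    [1,0,1,0,0,1,0,1,1,0],
    [1,1,1,0,1,0,1,1,0,0],
    [0,1,0,1,0,0,0,0,1,0],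
    [1,0,0,1,0,1,0,1,0,0],
    [1,0,0,0,0,1,1,1,1,0],
    [0,0,1,0,1,0,1,1,1,0],
    [0,1,0,1,0,0,0,1,1,0],
    [0,1,0,0,1,1,1,1,1,0],
    [1,0,1,1,1,0,0,0,1,0],
    [0,0,1,1,1,0,1,0,0,0],
    [1,1,0,0,1,1,0,1,0,0],
    [0,0,1,0,1,0,1,1,0,0],
    [1,1,1,0,1,0,1,0,0,0],
    [1,0,1,0,0,1,0,1,0,0],
    [1,1,1,0,0,1,1,0,1,0],
    [1,0,0,1,1,0,0,1,1,0],
    [0,0,1,0,1,1,1,0,1,0],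
    [0,1,0,1,1,0,1,1,1,0],
    [0,1,1,1,0,0,0,0,1,0],
    [1,1,0,1,0,1,0,1,0,0],
    [1,1,1,1,0,1,0,0,1,0],
    [1,1,1,0,1,1,0,1,0,0],
    [0,1,1,1,1,0,1,0,0,0],
    [0,1,1,0,1,0,1,1,0,0],
    [1,0,1,0,1,0,1,0,0,0],
    [1,0,0,0,0,1,0,1,0,0],
    [1,1,0,0,0,1,1,0,1,0],
    [0,1,0,1,1,0,0,1,1,0],
    [0,1,0,0,1,1,1,0,1,0],
    [1,0,0,1,1,0,1,1,1,0],
    [1,1,1,1,0,0,0,0,1,0],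
    [0,1,1,1,0,1,0,1,0,0],
    [0,1,0,1,0,1,0,0,1,0],
    [1,0,0,0,1,1,0,1,0,0],
    [1,0,1,1,1,0,1,0,0,0],
    [0,0,1,0,1,0,1,0,0,0],
    [0,1,0,1,0,0,1,0,1,0],
    [1,1,1,0,0,1,0,1,0,0],
    [0,1,1,0,1,0,1,0,0,0],
    [1,1,1,0,1,0,0,1,1,0],
    [0,0,1,1,0,1,1,1,0,0],
    [1,1,0,0,0,1,0,1,0,0],
    [1,0,0,1,1,1,0,1,0,0],
    [1,0,1,1,1,1,0,0,1,0],
    [0,1,1,1,0,0,1,1,0,0],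
    [1,1,0,1,0,0,1,0,1,0],
    [1,0,1,0,1,0,0,1,1,0],
    [1,0,0,1,0,1,1,1,0,0],
    [0,1,1,1,1,1,0,1,0,0],
    [0,1,0,1,1,1,0,0,1,0],
    [1,1,1,1,0,0,1,1,0,0],
    [0,0,1,1,1,1,1,0,0,0],
    [1,1,0,1,1,1,1,0,0,0]]⟩

/-- Two generators. -/
def gen27 (k : ℕ) : Lin spec27.m spec27.d :=
  if k = 0 then spec27.dec [1,1,0,0,1,0,0,0,1,0] else spec27.dec [0,0,1,1,0,0,0,1,0,0]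

/-- Each linear part as a word in the generators. -/
def words27 : List (List ℕ) :=
  [[],[0],[1],[0,1],[1,0],[1,1],[0,1,0],[0,1,1],[1,0,1],[1,1,0],[0,1,0,1],[0,1,1,0],[1,0,1,0],[1,0,1,1],[1,1,0,1],[0,1,0,1,0],[0,1,0,1,1],[0,1,1,0,1],[1,0,1,0,1],[1,0,1,1,0],[1,1,0,1,0],[1,1,0,1,1],[0,1,0,1,0,1],[0,1,0,1,1,0],[0,1,1,0,1,0],[0,1,1,0,1,1],[1,0,1,0,1,0],[1,0,1,0,1,1],[1,0,1,1,0,1],[1,1,0,1,0,1],[1,1,0,1,1,0],[0,1,0,1,0,1,0],[0,1,0,1,0,1,1],[0,1,0,1,1,0,1],[0,1,1,0,1,0,1],[0,1,1,0,1,1,0],[1,0,1,0,1,0,1],[1,0,1,0,1,1,0],[1,0,1,1,0,1,0],[1,0,1,1,0,1,1],[1,1,0,1,0,1,0],[1,1,0,1,0,1,1],[1,1,0,1,1,0,1],[0,1,0,1,0,1,0,1],[0,1,0,1,0,1,1,0],[0,1,0,1,1,0,1,0],[0,1,0,1,1,0,1,1],[0,1,1,0,1,0,1,0],[0,1,1,0,1,0,1,1],[0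,1,1,0,1,1,0,1],[1,0,1,0,1,0,1,0],[1,0,1,0,1,0,1,1],[1,0,1,0,1,1,0,1],[1,0,1,1,0,1,0,1],[1,0,1,1,0,1,1,0],[1,1,0,1,0,1,0,1],[1,1,0,1,0,1,1,0],[1,1,0,1,1,0,1,0],[1,1,0,1,1,0,1,1],[0,1,0,1,0,1,0,1,1],[0,1,0,1,0,1,1,0,1],[0,1,0,1,1,0,1,0,1],[0,1,0,1,1,0,1,1,0],[0,1,1,0,1,0,1,0,1],[0,1,1,0,1,0,1,1,0],[0,1,1,0,1,1,0,1,0],[1,0,1,0,1,0,1,1,0],[1,0,1,0,1,1,0,1,0],[1,0,1,0,1,1,0,1,1],[1,0,1,1,0,1,0,1,0],[1,0,1,1,0,1,0,1,1],[1,0,1,1,0,1,1,0,1],[1,1,0,1,0,1,0,1,0],[1,1,0,1,0,1,0,1,1],[1,1,0,1,0,1,1,0,1],[1,1,0,1,1,0,1,0,1],[0,1,0,1,0,1,0,1,1,0],[0,1,0,1,0,1,1,0,1,0],[0,1,0,1,0,1,1,0,1,1],[0,1,0,1,1,0,1,0,1,0],[0,1,0,1,1,0,1,0,1,1],[0,1,0,1,1,0,1,1,0,1],[0,1,1,0,1,0,1,0,1,0],[0,1,1,0,1,0,1,0,1,1],[0,1,1,0,1,0,1,1,0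,1],[0,1,1,0,1,1,0,1,0,1],[1,0,1,0,1,0,1,1,0,1],[1,0,1,0,1,1,0,1,0,1],[1,0,1,0,1,1,0,1,1,0],[1,0,1,1,0,1,0,1,0,1],[1,0,1,1,0,1,1,0,1,0],[1,1,0,1,0,1,0,1,1,0],[1,1,0,1,0,1,1,0,1,1],[1,1,0,1,1,0,1,0,1,0],[1,1,0,1,1,0,1,0,1,1],[0,1,0,1,0,1,0,1,1,0,1],[0,1,0,1,0,1,1,0,1,0,1],[0,1,0,1,0,1,1,0,1,1,0],[0,1,0,1,1,0,1,0,1,0,1],[0,1,0,1,1,0,1,1,0,1,0],[0,1,1,0,1,0,1,0,1,1,0],[0,1,1,0,1,0,1,1,0,1,1],[0,1,1,0,1,1,0,1,0,1,0],[0,1,1,0,1,1,0,1,0,1,1],[1,0,1,0,1,0,1,1,0,1,0],[1,0,1,0,1,0,1,1,0,1,1],[1,0,1,0,1,1,0,1,0,1,0],[1,0,1,0,1,1,0,1,0,1,1],[1,0,1,0,1,1,0,1,1,0,1],[1,0,1,1,0,1,0,1,0,1,0],[1,0,1,1,0,1,0,1,0,1,1],[1,0,1,1,0,1,1,0,1,0,1],[1,1,0,1,0,1,0,1,1,0,1],[1,1,0,1,0,1,1,0,1,1,0],[1,1,0,1,1,0,1,0,1,0,1],[0,1,0,1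,0,1,0,1,1,0,1,0],[0,1,0,1,0,1,0,1,1,0,1,1],[0,1,0,1,0,1,1,0,1,0,1,0],[0,1,0,1,0,1,1,0,1,0,1,1],[0,1,0,1,0,1,1,0,1,1,0,1],[0,1,0,1,1,0,1,0,1,0,1,0],[0,1,0,1,1,0,1,0,1,0,1,1],[0,1,0,1,1,0,1,1,0,1,0,1],[0,1,1,0,1,0,1,0,1,1,0,1],[0,1,1,0,1,0,1,1,0,1,1,0],[0,1,1,0,1,1,0,1,0,1,0,1],[1,0,1,0,1,0,1,1,0,1,0,1],[1,0,1,0,1,0,1,1,0,1,1,0],[1,0,1,0,1,1,0,1,0,1,0,1],[1,0,1,0,1,1,0,1,1,0,1,0],[1,0,1,1,0,1,0,1,0,1,1,0],[1,0,1,1,0,1,1,0,1,0,1,0],[1,0,1,1,0,1,1,0,1,0,1,1],[1,1,0,1,0,1,0,1,1,0,1,0],[1,1,0,1,0,1,0,1,1,0,1,1],[1,1,0,1,0,1,1,0,1,1,0,1],[1,1,0,1,1,0,1,0,1,0,1,0],[1,1,0,1,1,0,1,0,1,0,1,1],[0,1,0,1,0,1,0,1,1,0,1,0,1],[0,1,0,1,0,1,0,1,1,0,1,1,0],[0,1,0,1,0,1,1,0,1,0,1,0,1],[0,1,0,1,0,1,1,0,1,1,0,1,0],[0,1,0,1,1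,0,1,0,1,0,1,1,0],[0,1,0,1,1,0,1,1,0,1,0,1,0],[0,1,0,1,1,0,1,1,0,1,0,1,1],[0,1,1,0,1,0,1,0,1,1,0,1,0],[0,1,1,0,1,0,1,0,1,1,0,1,1],[0,1,1,0,1,0,1,1,0,1,1,0,1],[0,1,1,0,1,1,0,1,0,1,0,1,0],[0,1,1,0,1,1,0,1,0,1,0,1,1],[1,0,1,0,1,0,1,1,0,1,0,1,0],[1,0,1,0,1,0,1,1,0,1,0,1,1],[1,0,1,0,1,1,0,1,0,1,0,1,0],[1,0,1,0,1,1,0,1,0,1,0,1,1],[1,0,1,0,1,1,0,1,1,0,1,0,1],[1,0,1,1,0,1,0,1,0,1,1,0,1],[1,1,0,1,0,1,0,1,1,0,1,0,1],[1,1,0,1,0,1,0,1,1,0,1,1,0],[1,1,0,1,0,1,1,0,1,1,0,1,0],[1,1,0,1,1,0,1,0,1,0,1,1,0],[0,1,0,1,0,1,0,1,1,0,1,0,1,1],[0,1,0,1,0,1,1,0,1,1,0,1,0,1],[0,1,0,1,1,0,1,0,1,0,1,1,0,1],[0,1,1,0,1,0,1,0,1,1,0,1,1,0],[0,1,1,0,1,0,1,1,0,1,1,0,1,0],[0,1,1,0,1,1,0,1,0,1,0,1,1,0],[1,0,1,1,0,1,0,1,0,1,1,0,1,0],[0,1,0,1,1,0,1,0,1,0,1,1,0,1,0]]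

theorem lins27_eq : spec27.lins = words27.map (fun w => (w.map gen27).prod) := by decide +kernel

theorem gen27_stable : ∀ g ∈ spec27.lins, g * gen27 0 ∈ spec27.lins ∧ g * gen27 1 ∈ spec27.lins := by
  decide +kernel

theorem mul_mem27 : ∀ g ∈ spec27.lins, ∀ h ∈ spec27.lins, g * h ∈ spec27.lins := by
  intro g hg h hh
  rw [lins27_eq, List.mem_map] at hh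
  obtain ⟨w, -, rfl⟩ := hh
  induction w generalizing g with
  | nil => simpa using hg
  | cons k w ih =>
    rw [List.map_cons, List.prod_cons, ← mul_assoc]
    refine ih _ ?_
    by_cases hk : k = 0
    · subst hk; exact (gen27_stable g hg).1
    · have : gen27 k = gen27 1 := by simp [gen27, hk]
      rw [this]
      exact (gen27_stable g hg).2

theorem ok27 : spec27.Ok where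
  pos := by decide
  dvd₁ := by decide +kernel
  dvd₂ := by decide +kernel
  dvd₃ := by decide +kernel
  one_mem := by decide +kernel
  mul_mem := mul_mem27
  stable := by decide +kernel
  nodup := by decide +kernel
  exp := by decide +kernel

end Cfsg.Agent.GroupStructure3.OrderType
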