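import Cfsg.Agent.GroupStructure3.OrderType.Data5

/-!
The specification of `SL(3,2)`.
-/

set_option autoImplicit false

namespace Cfsg.Agent.GroupStructure3.OrderType

theorem tors27 : [1,2,3,4,6,7,12,14,21,28,42,84].map spec27.tors = [1,22,57,64,78,49,120,70,105,112,126,168] := by decide +kernel

end Cfsg.Agent.GroupStructure3.OrderType
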