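import Cfsg.Agent.GroupStructure3.OrderType.Group
import Cfsg.Agent.Lib.Characters.Burnside

/-!
Solvability of the factors and of their products.
-/

set_option autoImplicit false

namespace Cfsg.Agent.GroupStructure3.OrderType

theorem isSolvable_pi {ι : Type} [Fintype ι] {H : ι → Type} [∀ i, Group (H i)]
    [hH : ∀ i, Group.IsSolvable (H i)] : Group.IsSolvable ((i : ι) → H i) := by
  choose k hk using fun i => (hH i).solvable
  refine ⟨⟨Finset.univ.sup k, eq_bot_iff.2 fun x hx => Subgroup.mem_bot.2 (funext fun i => ?_)⟩⟩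
  have h1 := map_derivedSeries_le_derivedSeries (Pi.evalMonoidHom H i) (Finset.univ.sup k)
    (Subgroup.mem_map_of_mem _ hx)
  have h2 := derivedSeries_antitone (H i) (Finset.le_sup (f := k) (Finset.mem_univ i)) h1
  rw [hk i, Subgroup.mem_bot] at h2
  exact h2

namespace Spec

variable {S : Spec} (hS : S.Ok)

/-- The linear part. -/
def linHom : Grp hS →* Lin S.m S.d where
  toFun x := x.1.lin
  map_one' := rfl
  map_mul' _ _ := rfl

include hS in
theorem isSolvable {p q a b : ℕ} (hp : p.Prime) (hq : q.Prime)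
    (h : S.lins.length = p ^ a * q ^ b) : Group.IsSolvable (Grp hS) := by
  classical
  let φ := (linHom hS).toHomUnits
  haveI : Finite φ.range := Finite.of_surjective φ.rangeRestrict φ.rangeRestrict_surjective
  have hval : ∀ x : Grp hS, (φ x : Lin S.m S.d) = x.1.lin := fun x => rfl
  have hrange : Nat.card φ.range = p ^ a * q ^ b := by
    rw [← h, ← List.toFinset_card_of_nodup hS.nodup, ← Nat.card_eq_finsetCard]
    refine Nat.card_congr (Equiv.ofBijective (fun u : φ.range => (⟨(u.1 : Lin S.m S.d), ?_⟩ :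
      {g // g ∈ S.lins.toFinset})) ⟨?_, ?_⟩)
    · obtain ⟨x, hx⟩ := u.2
      rw [List.mem_toFinset, ← hx, hval]
      exact x.2.1
    · intro u v e
      exact Subtype.ext (Units.ext (congrArg Subtype.val e))
    · rintro ⟨g, hg⟩
      rw [List.mem_toFinset] at hg
      refine ⟨⟨φ ⟨⟨g, ⟨0, 0, 0⟩⟩, hg, by simp [inV]⟩, _, rfl⟩, ?_⟩
      rfl
  haveI : Group.IsSolvable φ.range := Cfsg.Agent.Characters.burnside_pa_qb hp hq hrange
  haveI : Group.IsSolvable φ.ker := by
    refine Group.isSolvable_of_comm fun x y => Subtype.ext (Subtype.ext ?_)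
    have hx : x.1.1.lin = 1 := congrArg Units.val x.2
    have hy : y.1.1.lin = 1 := congrArg Units.val y.2
    show x.1.1 * y.1.1 = y.1.1 * x.1.1
    rw [aff_mul, aff_mul, hx, hy, lin_one]
    ext <;> simp [vadd3, act, dot, mone, lmul, mmul, rmul, lin_mul] <;> ring
  refine Group.isSolvable_of_ker_le_range φ.ker.subtype φ.rangeRestrict ?_
  rw [MonoidHom.ker_rangeRestrict, Subgroup.range_subtype]

end Spec

end Cfsg.Agent.GroupStructure3.OrderType
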