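import Cfsg.Agent.GroupStructure3.OrderType.Data1
import Cfsg.Agent.GroupStructure3.OrderType.Data2
import Cfsg.Agent.GroupStructure3.OrderType.Data3
import Cfsg.Agent.GroupStructure3.OrderType.Data4
import Cfsg.Agent.GroupStructure3.OrderType.Data5
import Cfsg.Agent.GroupStructure3.OrderType.Data6
import Cfsg.Agent.GroupStructure3.OrderType.Solvable

/-!
A solvable and a non-solvable group with the same order type.
-/

set_option autoImplicit false

namespace Cfsg.Agent.GroupStructure3.OrderType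

def solSpec : Fin 15 → Spec :=
  ![spec1, spec3, spec6, spec7, spec8, spec9, spec12, spec13, spec16, spec18, spec19, spec21, spec22, spec23, spec26]

def solExp : Fin 15 → ℕ :=
  ![6, 6, 2, 6, 21, 18, 3, 6, 2, 6, 6, 6, 6, 6, 6]

theorem solOk : ∀ i, (solSpec i).Ok :=
  Fin.cases ok1 <| Fin.cases ok3 <| Fin.cases ok6 <| Fin.cases ok7 <| Fin.cases ok8 <| Fin.cases ok9 <| Fin.cases ok12 <| Fin.cases ok13 <| Fin.cases ok16 <| Fin.cases ok18 <| Fin.cases ok19 <| Fin.cases ok21 <| Fin.cases ok22 <| Fin.cases ok23 <| Fin.cases ok26 <| fun i => i.elim0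

abbrev solGrp : Type := (i : Fin 15) → Fin (solExp i) → Spec.Grp (solOk i)

def solVals : Fin 15 → List ℕ :=
  ![[1,1,3,1,3,1,3,1,3,1,3,3], [1,2,3,8,6,1,12,2,3,8,6,12], [1,1,15,1,15,7,15,7,21,7,21,21], [1,10,9,16,18,1,24,10,9,16,18,24], [1,2,1,16,2,7,16,14,7,28,14,28], [1,8,15,8,36,7,36,14,21,14,42,42], [1,50,1,50,50,49,50,98,49,98,98,98], [1,8,57,8,120,49,120,56,105,56,168,168], [1,148,3,148,150,49,150,196,147,196,294,294], [1,22,99,22,120,49,120,196,147,196,294,294], [1,78,1,176,78,49,176,294,49,392,294,392], [1,2,99,100,198,49,492,98,147,196,294,588], [1,50,99,148,246,49,540,98,147,196,294,588], [1,2,15,100,30,49,324,98,147,196,294,588], [1,148,1,148,148,343,148,1372,343,1372,1372,1372]]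

theorem solTors : ∀ i, [1,2,3,4,6,7,12,14,21,28,42,84].map (solSpec i).tors = solVals i :=
  Fin.cases tors1 <| Fin.cases tors3 <| Fin.cases tors6 <| Fin.cases tors7 <| Fin.cases tors8 <| Fin.cases tors9 <| Fin.cases tors12 <| Fin.cases tors13 <| Fin.cases tors16 <| Fin.cases tors18 <| Fin.cases tors19 <| Fin.cases tors21 <| Fin.cases tors22 <| Fin.cases tors23 <| Fin.cases tors26 <| fun i => i.elim0

def nsSpec : Fin 13 → Spec :=
  ![spec0, spec2, spec4, spec5, spec10, spec11, spec14, spec15, spec17, spec20, spec24, spec25, spec27]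

def nsExp : Fin 13 → ℕ :=
  ![10, 6, 15, 8, 6, 18, 9, 6, 6, 6, 8, 6, 6]

theorem nsOk : ∀ i, (nsSpec i).Ok :=
  Fin.cases ok0 <| Fin.cases ok2 <| Fin.cases ok4 <| Fin.cases ok5 <| Fin.cases ok10 <| Fin.cases ok11 <| Fin.cases ok14 <| Fin.cases ok15 <| Fin.cases ok17 <| Fin.cases ok20 <| Fin.cases ok24 <| Fin.cases ok25 <| Fin.cases ok27 <| fun i => i.elim0

abbrev nsGrp : Type := (i : Fin 13) → Fin (nsExp i) → Spec.Grp (nsOk i)

def nsVals : Fin 13 → List ℕ :=
  ![[1,2,1,2,2,1,2,2,1,2,2,2], [1,4,9,4,12,1,12,4,9,4,12,12], [1,8,1,8,8,7,8,14,7,14,14,14], [1,2,1,2,2,7,2,14,7,14,14,14], [1,2,3,44,6,7,48,14,21,56,42,84], [1,2,15,16,30,7,72,14,21,28,42,84], [1,2,1,100,2,49,100,98,49,196,98,196], [1,50,1,148,50,49,148,98,49,196,98,196], [1,50,99,50,246,49,246,98,147,98,294,294], [1,2,99,4,198,49,396,98,147,196,294,588], [1,148,45,148,486,49,486,196,441,196,882,882], [1,78,99,176,666,49,960,294,147,392,882,1176], [1,22,57,64,78,49,120,70,105,112,126,168]]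

theorem nsTors : ∀ i, [1,2,3,4,6,7,12,14,21,28,42,84].map (nsSpec i).tors = nsVals i :=
  Fin.cases tors0 <| Fin.cases tors2 <| Fin.cases tors4 <| Fin.cases tors5 <| Fin.cases tors10 <| Fin.cases tors11 <| Fin.cases tors14 <| Fin.cases tors15 <| Fin.cases tors17 <| Fin.cases tors20 <| Fin.cases tors24 <| Fin.cases tors25 <| Fin.cases tors27 <| fun i => i.elim0

theorem solvable : Group.IsSolvable solGrp := by
  have h : ∀ i, Group.IsSolvable (Spec.Grp (solOk i)) :=
    Fin.cases (Spec.isSolvable (p := 3) (q := 5) (a := 1) (b := 0) ok1 (by norm_num) (by norm_num) (by decide +kernel)) <|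
    Fin.cases (Spec.isSolvable (p := 2) (q := 5) (a := 2) (b := 0) ok3 (by norm_num) (by norm_num) (by decide +kernel)) <|
    Fin.cases (Spec.isSolvable (p := 3) (q := 5) (a := 1) (b := 0) ok6 (by norm_num) (by norm_num) (by decide +kernel)) <|
    Fin.cases (Spec.isSolvable (p := 2) (q := 3) (a := 1) (b := 1) ok7 (by norm_num) (by norm_num) (by decide +kernel)) <|
    Fin.cases (Spec.isSolvable (p := 2) (q := 5) (a := 2) (b := 0) ok8 (by norm_num) (by norm_num) (by decide +kernel)) <|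
    Fin.cases (Spec.isSolvable (p := 2) (q := 3) (a := 1) (b := 1) ok9 (by norm_num) (by norm_num) (by decide +kernel)) <|
    Fin.cases (Spec.isSolvable (p := 2) (q := 5) (a := 1) (b := 0) ok12 (by norm_num) (by norm_num) (by decide +kernel)) <|
    Fin.cases (Spec.isSolvable (p := 3) (q := 7) (a := 1) (b := 1) ok13 (by norm_num) (by norm_num) (by decide +kernel)) <|
    Fin.cases (Spec.isSolvable (p := 2) (q := 5) (a := 1) (b := 0) ok16 (by norm_num) (by norm_num) (by decide +kernel)) <|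
    Fin.cases (Spec.isSolvable (p := 2) (q := 3) (a := 1) (b := 1) ok18 (by norm_num) (by norm_num) (by decide +kernel)) <|
    Fin.cases (Spec.isSolvable (p := 2) (q := 5) (a := 3) (b := 0) ok19 (by norm_num) (by norm_num) (by decide +kernel)) <|
    Fin.cases (Spec.isSolvable (p := 2) (q := 3) (a := 2) (b := 1) ok21 (by norm_num) (by norm_num) (by decide +kernel)) <|
    Fin.cases (Spec.isSolvable (p := 2) (q := 3) (a := 2) (b := 1) ok22 (by norm_num) (by norm_num) (by decide +kernel)) <|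
    Fin.cases (Spec.isSolvable (p := 2) (q := 3) (a := 2) (b := 1) ok23 (by norm_num) (by norm_num) (by decide +kernel)) <|
    Fin.cases (Spec.isSolvable (p := 2) (q := 7) (a := 2) (b := 1) ok26 (by norm_num) (by norm_num) (by decide +kernel)) <| fun i => i.elim0
  haveI : ∀ i, Group.IsSolvable (Fin (solExp i) → Spec.Grp (solOk i)) := fun i =>
    haveI := h i
    isSolvable_pi
  exact isSolvable_pi

end Cfsg.Agent.GroupStructure3.OrderType
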