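import Cfsg.Agent.GroupStructure3.OrderType.Basic

/-!
The finite group attached to a checked specification, its torsion counts, and products of them.
-/

set_option autoImplicit false

namespace Cfsg.Agent.GroupStructure3.OrderType

variable {m d : ℕ}

theorem dot_vadd (r u v : V3 m) : dot r (vadd3 u v) = dot r u + dot r v := by
  simp only [dot, vadd3]; ring

namespace Spec

variable {S : Spec}

theorem mem_coord (hm : 0 < S.m) {q : ℕ} (hq : q ∣ S.m) (a : ZMod S.m) :
    a ∈ S.coord q ↔ (q : ZMod S.m) * a = 0 := by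
  haveI : NeZero S.m := ⟨hm.ne'⟩
  obtain ⟨k, hk⟩ := hq
  have hq0 : 0 < q := Nat.pos_of_ne_zero fun h => by simp [h] at hk; omega
  have hdiv : S.m / q = k := by rw [hk, Nat.mul_div_cancel_left _ hq0]
  rw [coord, List.mem_map]
  constructor
  · rintro ⟨i, -, rfl⟩
    rw [hdiv, ← Nat.cast_mul, ← mul_assoc, ← hk, Nat.cast_mul, ZMod.natCast_self, zero_mul]
  · intro h
    have hd : S.m ∣ q * a.val := by
      rwa [← ZMod.natCast_eq_zero_iff, Nat.cast_mul, ZMod.natCast_rightInverse a]
    obtain ⟨i, hi⟩ : k ∣ a.val := by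
      obtain ⟨c, hc⟩ := hd
      refine ⟨c, Nat.eq_of_mul_eq_mul_left hq0 ?_⟩
      calc q * a.val = S.m * c := hc
        _ = q * (k * c) := by rw [hk, mul_assoc]
    refine ⟨i, List.mem_range.2 ?_, ?_⟩
    · have h1 : a.val < S.m := a.val_lt
      rw [hi] at h1
      have h2 : k * i < k * q := by rw [mul_comm k q, ← hk]; exact h1
      exact Nat.lt_of_mul_lt_mul_left h2
    · rw [hdiv, ← hi]
      exact ZMod.natCast_rightInverse a

theorem coord_nodup (hm : 0 < S.m) {q : ℕ} (hq : q ∣ S.m) : (S.coord q).Nodup := by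
  haveI : NeZero S.m := ⟨hm.ne'⟩
  obtain ⟨k, hk⟩ := hq
  have hq0 : 0 < q := Nat.pos_of_ne_zero fun h => by simp [h] at hk; omega
  have hk0 : 0 < k := Nat.pos_of_ne_zero fun h => by simp [h] at hk; omega
  have hdiv : S.m / q = k := by rw [hk, Nat.mul_div_cancel_left _ hq0]
  refine List.Nodup.map_on (fun i hi j hj e => ?_) List.nodup_range
  rw [List.mem_range] at hi hj
  rw [ZMod.natCast_eq_natCast_iff', hdiv] at e
  rw [Nat.mod_eq_of_lt, Nat.mod_eq_of_lt] at e
  · exact Nat.eq_of_mul_eq_mul_left hk0 e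
  · rw [hk, mul_comm q k]; exact Nat.mul_lt_mul_of_pos_left hj hk0
  · rw [hk, mul_comm q k]; exact Nat.mul_lt_mul_of_pos_left hi hk0

variable (hS : S.Ok)

include hS in
theorem mem_vecs (v : V3 S.m) : v ∈ S.vecs ↔ S.inV v := by
  obtain ⟨a, b, c⟩ := v
  simp only [vecs, List.mem_flatMap, List.mem_map, inV, V3.mk.injEq]
  rw [← mem_coord hS.pos hS.dvd₁, ← mem_coord hS.pos hS.dvd₂, ← mem_coord hS.pos hS.dvd₃]
  aesop

include hS in
theorem vecs_nodup : S.vecs.Nodup := by
  have h1 := coord_nodup hS.pos hS.dvd₁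
  have h2 := coord_nodup hS.pos hS.dvd₂
  have h3 := coord_nodup hS.pos hS.dvd₃
  simp only [vecs, List.nodup_flatMap]
  refine ⟨fun a _ => ⟨fun b _ => h3.map fun c c' e => by simpa using e, ?_⟩, ?_⟩
  · refine h2.imp fun {b b'} hne => ?_
    intro v hv hv'
    simp only [List.mem_map] at hv hv'
    obtain ⟨c, -, rfl⟩ := hv
    obtain ⟨c', -, e⟩ := hv'
    simp only [V3.mk.injEq] at e
    exact hne e.2.1.symm
  · refine h1.imp fun {a a'} hne => ?_
    intro v hv hv'
    simp only [List.mem_flatMap, List.mem_map] at hv hv'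
    obtain ⟨b, -, c, -, rfl⟩ := hv
    obtain ⟨b', -, c', -, e⟩ := hv'
    simp only [V3.mk.injEq] at e
    exact hne e.1.symm

variable (S) in
def inG (x : Aff S.m S.d) : Prop := x.lin ∈ S.lins ∧ S.inV x.vec

include hS in
theorem inG_one : S.inG 1 := ⟨hS.one_mem, by simp [inV, aff_one]⟩

include hS in
theorem inG_mul {x y : Aff S.m S.d} (hx : S.inG x) (hy : S.inG y) : S.inG (x * y) := by
  refine ⟨hS.mul_mem _ hx.1 _ hy.1, ?_⟩
  have h2 := hS.stable _ hx.1 _ ((mem_vecs hS _).2 hy.2)
  have h1 := hx.2
  simp only [inV, aff_mul, vadd3] at h1 h2 ⊢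
  exact ⟨by rw [mul_add, h1.1, h2.1, add_zero], by rw [mul_add, h1.2.1, h2.2.1, add_zero],
    by rw [mul_add, h1.2.2, h2.2.2, add_zero]⟩

/-- The submonoid of the specification. -/
def sub : Submonoid (Aff S.m S.d) where
  carrier := {x | S.inG x}
  one_mem' := inG_one hS
  mul_mem' := inG_mul hS

theorem pow_exp (x : sub hS) : x ^ 84 = 1 := by
  obtain ⟨⟨g, v⟩, hg, hv⟩ := x
  refine Subtype.ext ?_
  show (⟨g, v⟩ : Aff S.m S.d) ^ 84 = 1
  rw [pow_eq, aff_one, (hS.exp g hg).1, (hS.exp g hg).2 v ((mem_vecs hS v).2 hv)]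

/-- The group of the specification. -/
abbrev Grp : Type := sub hS

instance : Group (Grp hS) :=
  { (inferInstance : Monoid (sub hS)) with
    inv := fun x => ((x : sub hS) ^ 83 : sub hS)
    inv_mul_cancel := fun x => by
      show (x : sub hS) ^ 83 * (x : sub hS) = 1
      rw [← pow_succ]
      exact pow_exp hS x }

theorem grp_exp (x : Grp hS) : x ^ 84 = 1 := pow_exp hS x

/-- The elements, listed. -/
def elems : List (Aff S.m S.d) := S.lins.flatMap fun g => S.vecs.map fun v => ⟨g, v⟩

theorem mem_elems (x : Aff S.m S.d) : x ∈ elems (S := S) ↔ x ∈ sub hS := by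
  obtain ⟨g, v⟩ := x
  simp only [elems, List.mem_flatMap, List.mem_map]
  show _ ↔ (g ∈ S.lins ∧ S.inV v)
  rw [← mem_vecs hS]
  aesop

include hS in
theorem elems_nodup : (elems (S := S)).Nodup := by
  simp only [elems, List.nodup_flatMap]
  refine ⟨fun g _ => (vecs_nodup hS).map fun v w e => by simpa using e, hS.nodup.imp fun {g g'} hne => ?_⟩
  intro x hx hx'
  simp only [List.mem_map] at hx hx'
  obtain ⟨v, -, rfl⟩ := hx
  obtain ⟨v', -, e⟩ := hx'
  simp only [Aff.mk.injEq] at e
  exact hne e.1.symm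

instance : Finite (Grp hS) :=
  Finite.of_injective (β := {x // x ∈ (elems (S := S)).toFinset})
    (fun x : Grp hS => ⟨x.1, by rw [List.mem_toFinset, mem_elems hS]; exact x.2⟩)
    fun a b e => Subtype.ext (congrArg Subtype.val e :)

theorem card_tors (n : ℕ) : Nat.card {x : Grp hS // x ^ n = 1} = S.tors n := by
  classical
  let e : {x : Grp hS // x ^ n = 1} ≃ {x // x ∈ ((elems (S := S)).filter fun x => x ^ n = 1).toFinset} :=
    { toFun := fun x => ⟨x.1.1, by
        rw [List.mem_toFinset, List.mem_filter, mem_elems hS, decide_eq_true_iff]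
        refine ⟨x.1.2, ?_⟩
        have h := congrArg Subtype.val x.2
        rwa [SubmonoidClass.coe_pow, OneMemClass.coe_one] at h⟩
      invFun := fun x => ⟨⟨x.1, by
          have := x.2
          rw [List.mem_toFinset, List.mem_filter, mem_elems hS] at this
          exact this.1⟩, Subtype.ext (by
          have := x.2
          rw [List.mem_toFinset, List.mem_filter, decide_eq_true_iff] at this
          rw [SubmonoidClass.coe_pow, OneMemClass.coe_one]
          exact this.2)⟩
      left_inv := fun x => rfl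
      right_inv := fun x => rfl }
  rw [Nat.card_congr e, Nat.card_eq_finsetCard, List.toFinset_card_of_nodup ((elems_nodup hS).filter _)]
  rw [← List.countP_eq_length_filter, elems, List.countP_flatMap, tors]
  congr 1
  refine List.map_congr_left fun g _ => ?_
  simp only [Function.comp_apply, List.countP_map]
  split_ifs with h
  · refine List.countP_congr fun v _ => ?_
    simp [pow_eq, aff_one, h]
  · rw [List.countP_eq_zero]
    intro v _
    simp [pow_eq, aff_one, h]

end Spec

/-! ## Products -/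

/-- The `n`-torsion count is multiplicative. -/
theorem card_tors_pi {ι : Type} [Fintype ι] {M : ι → Type} [∀ i, Group (M i)] (n : ℕ) :
    Nat.card {x : (i : ι) → M i // x ^ n = 1} = ∏ i, Nat.card {y : M i // y ^ n = 1} := by
  rw [← Nat.card_pi]
  exact Nat.card_congr ((Equiv.subtypeEquivRight fun x => by
    rw [funext_iff]; rfl).trans (Equiv.subtypePiEquivPi (p := fun i (y : M i) => y ^ n = 1)))

/-- Groups of exponent dividing `84` with the same torsion counts have the same order type. -/
theorem card_orderOf_eq {A B : Type} [Group A] [Finite A] [Group B] [Finite B]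
    (hA : ∀ a : A, a ^ 84 = 1) (hB : ∀ b : B, b ^ 84 = 1)
    (h : ∀ n, n ∈ Nat.divisors 84 → Nat.card {a : A // a ^ n = 1} = Nat.card {b : B // b ^ n = 1})
    (n : ℕ) : Nat.card {a : A // orderOf a = n} = Nat.card {b : B // orderOf b = n} := by
  classical
  haveI := Fintype.ofFinite A
  haveI := Fintype.ofFinite B
  induction n using Nat.strong_induction_on with
  | _ n ih =>
    by_cases hn : n ∈ Nat.divisors 84
    · have hn0 : n ≠ 0 := (Nat.pos_of_mem_divisors hn).ne'
      have key : ∀ (X : Type) [Group X] [Fintype X] [DecidableEq X],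
          Nat.card {a : X // a ^ n = 1} =
            ∑ k ∈ Nat.properDivisors n, Nat.card {a : X // orderOf a = k} +
              Nat.card {a : X // orderOf a = n} := by
        intro X _ _ _
        simp only [Nat.card_eq_fintype_card, Fintype.card_subtype]
        rw [← sum_card_orderOf_eq_card_pow_eq_one hn0, ← Nat.cons_self_properDivisors hn0,
          Finset.sum_cons, add_comm]
      have h1 := h n hn
      rw [key, key, Finset.sum_congr rfl fun k hk => ih k (Nat.mem_properDivisors.1 hk).2] at h1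
      exact Nat.add_left_cancel h1
    · have key : ∀ (X : Type) [Group X], (∀ a : X, a ^ 84 = 1) →
          IsEmpty {a : X // orderOf a = n} := fun X _ hX =>
        ⟨fun a => hn (Nat.mem_divisors.2 ⟨a.2 ▸ orderOf_dvd_of_pow_eq_one (hX a.1), by norm_num⟩)⟩
      haveI := key A hA
      haveI := key B hB
      rw [Nat.card_of_isEmpty, Nat.card_of_isEmpty]

end Cfsg.Agent.GroupStructure3.OrderType
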